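import Groth.Agent.L28.EtTrace.BrauerNorm
import Groth.Agent.L28.CdLower.Lift
import Mathlib.FieldTheory.IsAlgClosed.AlgebraicClosure
import Mathlib.FieldTheory.Galois.Basic
import Mathlib.RingTheory.Polynomial.GaussLemma
import Mathlib.RingTheory.Norm.Basic
import Mathlib.RingTheory.AdjoinRoot
import Mathlib.Algebra.Polynomial.Eval.Irreducible
import Mathlib.FieldTheory.Finite.GaloisField

/-! # Lifting Artin–Schreier extensions of the residue field -/

set_option autoImplicit false
set_option linter.style.haveILetI false
set_option linter.unusedSectionVars false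
set_option maxSynthPendingDepth 3

universe u

open Polynomial IsLocalRing

noncomputable section

namespace Groth.L28.DvrLang

/-- An Artin–Schreier polynomial without root is irreducible. -/
theorem irreducible_as {E : Type u} [Field E] (p : ℕ) [Fact p.Prime] [CharP E p] (c : E)
    (hc : ∀ x : E, x ^ p - x ≠ c) : Irreducible (X ^ p - (X + C c) : E[X]) := by
  have hp : p.Prime := Fact.out
  have hm : (X ^ p - (X + C c) : E[X]).Monic := monic_X_pow_sub (by
    rw [degree_X_add_C]; exact_mod_cast hp.one_lt)
  have hd : (X ^ p - (X + C c) : E[X]).natDegree = p := by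
    rw [natDegree_sub_eq_left_of_natDegree_lt (by rw [natDegree_X_add_C, natDegree_X_pow]; exact hp.one_lt),
      natDegree_X_pow]
  refine hm.irreducible_iff_natDegree.2
    ⟨fun h => by rw [h, natDegree_one] at hd; exact hp.ne_zero hd.symm, fun f g hf hg hfg => ?_⟩
  by_contra hcon
  push Not at hcon
  have hdeg : f.natDegree + g.natDegree = p := by rw [← hf.natDegree_mul hg, hfg, hd]
  let Ω := AlgebraicClosure E
  let i := algebraMap E Ω
  haveI : CharP Ω p := charP_of_injective_algebraMap i.injective p
  obtain ⟨α, hα⟩ := IsAlgClosed.exists_root (f.map i) (by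
    rw [hf.degree_map, degree_eq_natDegree hf.ne_zero]; exact_mod_cast hcon.1)
  have hroot : ∀ r : Ω, (f.map i).IsRoot r → r ^ p - r = i c := fun r hr => by
    have h1 : ((X ^ p - (X + C c) : E[X]).map i).IsRoot r := by
      rw [← hfg, Polynomial.map_mul]; exact root_mul_right_of_isRoot _ hr
    simp only [IsRoot.def, Polynomial.map_sub, Polynomial.map_pow, map_X, Polynomial.map_add, map_C, eval_sub,
      eval_pow, eval_X, eval_add, eval_C] at h1
    linear_combination h1
  have hshift : ∀ r : Ω, (f.map i).IsRoot r → r - α ∈ i.range := fun r hr => by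
    have h1 : (r - α) ^ p = r - α := by
      rw [sub_pow_char]; linear_combination hroot r hr - hroot α hα
    obtain ⟨b, hb⟩ : ∃ b : ZMod p, ZMod.castHom (dvd_refl p) Ω b = r - α := by
      classical
      let φ := ZMod.castHom (dvd_refl p) Ω
      by_contra hno
      push Not at hno
      have hne : (X ^ p - X : Polynomial Ω) ≠ 0 := FiniteField.X_pow_card_sub_X_ne_zero _ hp.one_lt
      have hsub : insert (r - α) (Finset.univ.image φ) ⊆ (X ^ p - X : Polynomial Ω).roots.toFinset := by
        intro z hz
        rw [Multiset.mem_toFinset, mem_roots hne]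
        simp only [IsRoot.def, eval_sub, eval_pow, eval_X, sub_eq_zero]
        rcases Finset.mem_insert.1 hz with rfl | hz
        · exact h1
        · obtain ⟨b, -, rfl⟩ := Finset.mem_image.1 hz
          rw [← map_pow, ZMod.pow_card]
      have hle := (Finset.card_le_card hsub).trans ((Multiset.toFinset_card_le _).trans (card_roots' _))
      rw [Finset.card_insert_of_notMem (fun h => by
          obtain ⟨b, -, hb⟩ := Finset.mem_image.1 h
          exact hno b hb), Finset.card_image_of_injective _ φ.injective, Finset.card_univ, ZMod.card,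
        FiniteField.X_pow_card_sub_X_natDegree_eq _ hp.one_lt] at hle
      omega
    exact ⟨ZMod.castHom (dvd_refl p) E b, by rw [← hb, ← RingHom.comp_apply]; exact RingHom.congr_fun (Subsingleton.elim _ _) b⟩
  have hsum : (f.map i).roots.sum - f.natDegree • α ∈ i.range := by
    have h2 : ((f.map i).roots.map fun r => r - α).sum ∈ i.range :=
      multiset_sum_mem _ fun x hx => by
        obtain ⟨r, hr, rfl⟩ := Multiset.mem_map.1 hx
        exact hshift r (isRoot_of_mem_roots hr)
    rwa [Multiset.sum_map_sub, Multiset.map_id', Multiset.map_const', Multiset.sum_replicate,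
      ← (IsAlgClosed.splits (f.map i)).natDegree_eq_card_roots, natDegree_map] at h2
  have hnext : (f.map i).roots.sum = i (-f.nextCoeff) := by
    have h2 := (IsAlgClosed.splits (f.map i)).nextCoeff_eq_neg_sum_roots_of_monic (hf.map i)
    rw [Polynomial.nextCoeff_map i.injective] at h2
    rw [map_neg, h2, neg_neg]
  obtain ⟨s, hs⟩ := hsum
  have hd0 : (f.natDegree : E) ≠ 0 := fun h => by
    have := Nat.le_of_dvd (Nat.pos_of_ne_zero hcon.1) ((CharP.cast_eq_zero_iff E p _).1 h)
    omega
  refine hc ((-f.nextCoeff - s) / f.natDegree) (i.injective ?_)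
  have hα' : α = i ((-f.nextCoeff - s) / f.natDegree) := by
    rw [map_div₀, map_natCast, eq_div_iff (by rw [← map_natCast i]; exact (map_ne_zero i).2 hd0)]
    rw [map_sub, ← hnext, hs, nsmul_eq_mul]
    ring
  rw [map_sub, map_pow, ← hα']
  exact hroot α hα

variable (S : Type u) [CommRing S] [IsDomain S] [IsDiscreteValuationRing S] [HenselianLocalRing S]

/-- An unramified extension from a polynomial with irreducible reduction. -/
theorem adjoinRoot_dvr (f : S[X]) (hf : f.Monic) (hirr : Irreducible (f.map (residue S))) :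
    ∃ (_ : IsDomain (AdjoinRoot f)) (_ : IsDiscreteValuationRing (AdjoinRoot f))
      (_ : HenselianLocalRing (AdjoinRoot f)), ∀ π : S, Irreducible π →
        maximalIdeal (AdjoinRoot f) = Ideal.span {algebraMap S (AdjoinRoot f) π} := by
  haveI := Fact.mk hirr
  let E := AdjoinRoot (f.map (residue S))
  let A := AdjoinRoot f
  let φ : S →+* E := (AdjoinRoot.of _).comp (residue S)
  have hev : f.eval₂ φ (AdjoinRoot.root _) = 0 := by
    rw [← eval₂_map]; exact AdjoinRoot.eval₂_root _
  let ψ : A →+* E := AdjoinRoot.lift φ (AdjoinRoot.root _) hev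
  have hψmk : ∀ g : S[X], ψ (AdjoinRoot.mk f g) = AdjoinRoot.mk _ (g.map (residue S)) := fun g => by
    refine (AdjoinRoot.lift_mk hev g).trans ?_
    rw [← eval₂_map]
    exact AdjoinRoot.aeval_eq _
  have hψ : Function.Surjective ψ := fun e => by
    obtain ⟨g, rfl⟩ := AdjoinRoot.mk_surjective e
    obtain ⟨g₀, rfl⟩ := Polynomial.map_surjective (residue S) residue_surjective g
    exact ⟨AdjoinRoot.mk f g₀, hψmk g₀⟩
  obtain ⟨π, hπ⟩ := IsDiscreteValuationRing.exists_irreducible S
  let P : A := algebraMap S A π
  have hker : RingHom.ker ψ = Ideal.span {P} := by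
    refine le_antisymm (fun s hs => ?_) ?_
    · obtain ⟨g, rfl⟩ := AdjoinRoot.mk_surjective s
      have h0 : AdjoinRoot.mk (f.map (residue S)) (g.map (residue S)) = 0 := (hψmk g).symm.trans hs
      obtain ⟨r, hr⟩ := AdjoinRoot.mk_eq_zero.1 h0
      obtain ⟨r₀, rfl⟩ := Polynomial.map_surjective (residue S) residue_surjective r
      have hmem : g - f * r₀ ∈ (maximalIdeal S).map C := by
        rw [Ideal.mem_map_C_iff]
        intro n
        rw [← residue_eq_zero_iff, ← coeff_map, Polynomial.map_sub, Polynomial.map_mul, ← hr, sub_self, coeff_zero]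
      rw [hπ.maximalIdeal_eq, Ideal.map_span, Set.image_singleton] at hmem
      obtain ⟨c, hc⟩ := Ideal.mem_span_singleton'.1 hmem
      refine Ideal.mem_span_singleton'.2 ⟨AdjoinRoot.mk f c, ?_⟩
      have := congrArg (AdjoinRoot.mk f) hc
      rw [map_mul, map_sub, map_mul, AdjoinRoot.mk_self, zero_mul, sub_zero] at this
      exact this
    · rw [Ideal.span_le, Set.singleton_subset_iff]
      show ψ (AdjoinRoot.of f π) = 0
      rw [AdjoinRoot.lift_of hev]
      show AdjoinRoot.of _ (residue S π) = 0
      rw [(residue_eq_zero_iff π).2 (by rw [hπ.maximalIdeal_eq]; exact Ideal.mem_span_singleton_self π), map_zero]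
  haveI hfree : Module.Free S A := Module.Free.of_basis (AdjoinRoot.powerBasis' hf).basis
  haveI hfin : Module.Finite S A := (AdjoinRoot.powerBasis' hf).finite
  haveI : IsNoetherianRing A := IsNoetherianRing.of_finite S A
  haveI hm : (RingHom.ker ψ).IsMaximal := RingHom.ker_isMaximal_of_surjective ψ hψ
  haveI : IsLocalRing A := IsLocalRing.of_unique_max_ideal ⟨RingHom.ker ψ, hm, fun M hM => by
    haveI : M.IsMaximal := hM
    have hc : (M.comap (algebraMap S A)).IsMaximal := Ideal.isMaximal_comap_of_isIntegral_of_isMaximal (R := S) M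
    refine (hm.eq_of_le hM.ne_top ?_).symm
    rw [hker, Ideal.span_le, Set.singleton_subset_iff]
    show π ∈ M.comap (algebraMap S A)
    rw [eq_maximalIdeal hc, hπ.maximalIdeal_eq]
    exact Ideal.mem_span_singleton_self π⟩
  have hmax : maximalIdeal A = Ideal.span {P} := (eq_maximalIdeal hm).symm.trans hker
  have hreg : ∀ x : A, P * x = 0 → x = 0 := fun x hx => by
    have : π • x = 0 := by rw [Algebra.smul_def]; exact hx
    exact (smul_eq_zero.1 this).resolve_left hπ.ne_zero
  haveI : IsDomain A := CdLower.isDomain_of_principal_regular P hmax hreg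
  haveI : HenselianLocalRing A := Groth.L05.henselianLocalRing_of_integral (A := S) A
  have hnf : ¬ IsField A := fun hF => by
    rw [IsLocalRing.isField_iff_maximalIdeal_eq, hmax, Ideal.span_singleton_eq_bot] at hF
    exact hπ.ne_zero ((smul_eq_zero.1 (show π • (1 : A) = 0 by
      rw [Algebra.smul_def, mul_one]; exact hF)).resolve_right one_ne_zero)
  haveI : IsDiscreteValuationRing A := ((IsDiscreteValuationRing.TFAE A hnf).out 0 4 rfl rfl).mpr ⟨⟨P, hmax⟩⟩
  refine ⟨inferInstance, inferInstance, inferInstance, fun π' hπ' => hmax.trans ?_⟩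
  obtain ⟨u, hu⟩ := IsDiscreteValuationRing.associated_of_irreducible S hπ hπ'
  rw [Ideal.span_singleton_eq_span_singleton]
  exact ⟨Units.map (algebraMap S A : S →* A) u, by rw [Units.coe_map, MonoidHom.coe_coe, ← map_mul, hu]⟩

/-- If norms of cyclic extensions of degree `p` are surjective, the residue field has no Artin–Schreier extension. -/
theorem exists_asRoot_of_normSurj (p : ℕ) [Fact p.Prime] [CharP (ResidueField S) p] (L : Type u) [Field L]
    [Algebra S L] [IsFractionRing S L] [CharZero L] (h : EtTrace.NormSurj p L) (c : ResidueField S) :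
    ∃ x : ResidueField S, x ^ p - x = c := by
  classical
  by_contra hne
  push Not at hne
  have hp : p.Prime := Fact.out
  obtain ⟨c₀, rfl⟩ := residue_surjective c
  let f : S[X] := X ^ p - (X + C c₀)
  have hfm : f.Monic := monic_X_pow_sub (by rw [degree_X_add_C]; exact_mod_cast hp.one_lt)
  have hfd : f.natDegree = p := by
    rw [natDegree_sub_eq_left_of_natDegree_lt (by rw [natDegree_X_add_C, natDegree_X_pow]; exact hp.one_lt),
      natDegree_X_pow]
  have hfmap : f.map (residue S) = X ^ p - (X + C (residue S c₀)) := by simp [f]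
  have hirr : Irreducible (f.map (residue S)) := hfmap ▸ irreducible_as p _ hne
  obtain ⟨_, _, _, hmax⟩ := adjoinRoot_dvr S f hfm hirr
  obtain ⟨π, hπ⟩ := IsDiscreteValuationRing.exists_irreducible S
  have hmax' := hmax π hπ
  have hirrS : Irreducible f := Polynomial.Monic.irreducible_of_irreducible_map (residue S) f hfm hirr
  haveI hirrL : Fact (Irreducible (f.map (algebraMap S L))) :=
    ⟨(hfm.irreducible_iff_irreducible_map_fraction_map (K := L)).1 hirrS⟩
  let A := AdjoinRoot f
  let L' := AdjoinRoot (f.map (algebraMap S L))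
  haveI : FiniteDimensional L L' := (hfm.map _).finite_adjoinRoot
  have hdeg : Module.finrank L L' = p := by
    rw [(AdjoinRoot.powerBasis (hfm.map (algebraMap S L)).ne_zero).finrank, AdjoinRoot.powerBasis_dim,
      hfm.natDegree_map, hfd]
  have hev : f.eval₂ (algebraMap S L') (AdjoinRoot.root (f.map (algebraMap S L))) = 0 := by
    rw [IsScalarTower.algebraMap_eq S L L', ← eval₂_map]
    exact AdjoinRoot.eval₂_root _
  let θ : A →ₐ[S] L' := AdjoinRoot.liftAlgHom f (Algebra.ofId S L') _ hev
  have hθmk : ∀ g : S[X], θ (AdjoinRoot.mk f g) = AdjoinRoot.mk _ (g.map (algebraMap S L)) := fun g => by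
    refine (AdjoinRoot.liftAlgHom_mk f (Algebra.ofId S L') _ hev g).trans ?_
    show eval₂ (algebraMap S L') _ g = _
    rw [IsScalarTower.algebraMap_eq S L L', ← eval₂_map]
    exact AdjoinRoot.aeval_eq _
  -- the roots
  let α : A := AdjoinRoot.root f
  have hαeq : α ^ p - (α + algebraMap S A c₀) = 0 := by
    have := AdjoinRoot.eval₂_root f
    simp only [f, eval₂_sub, eval₂_pow, eval₂_X, eval₂_add, eval₂_C] at this
    exact this
  have hpA : (p : A) ∈ maximalIdeal A := by
    rw [hmax', ← map_natCast (algebraMap S A)]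
    obtain ⟨t, ht⟩ := Ideal.mem_span_singleton'.1 (hπ.maximalIdeal_eq ▸
      (residue_eq_zero_iff (p : S)).1 (by rw [map_natCast, CharP.cast_eq_zero]) : (p : S) ∈ Ideal.span {π})
    exact Ideal.mem_span_singleton'.2 ⟨algebraMap S A t, by rw [← map_mul, ht]⟩
  haveI : CharP (ResidueField A) p := (CharP.charP_iff_prime_eq_zero hp).2 (by
    rw [← map_natCast (residue A)]; exact (residue_eq_zero_iff _).2 hpA)
  have hres : ∀ j : ZMod p, ∃ β : A, β ^ p - (β + algebraMap S A c₀) = 0 ∧
      residue A β = residue A α + (j.val : ResidueField A) := by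
    intro j
    obtain ⟨β, hβ, hβ'⟩ := HenselianLocalRing.is_henselian (X ^ p - (X + C (algebraMap S A c₀)))
      (monic_X_pow_sub (by rw [degree_X_add_C]; exact_mod_cast hp.one_lt)) (α + (j.val : A)) (by
        rw [← residue_eq_zero_iff]
        simp only [eval_sub, eval_pow, eval_X, eval_add, eval_C, map_sub, map_pow, map_add, map_natCast]
        rw [add_pow_char, map_natCast (residue A) j.val,
          ← frobenius_def p (j.val : ResidueField A), map_natCast]
        have := congrArg (residue A) hαeq
        simp only [map_sub, map_pow, map_add, map_zero] at this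
        linear_combination this) (by
        simp only [derivative_sub, derivative_X_pow, derivative_add, derivative_X, derivative_C, add_zero,
          eval_sub, eval_mul, eval_C, eval_pow, eval_X, eval_one]
        rw [← residue_ne_zero_iff_isUnit, map_sub, map_mul, map_natCast, CharP.cast_eq_zero, zero_mul, map_one,
          zero_sub]
        exact neg_ne_zero.2 one_ne_zero)
    refine ⟨β, by simpa [IsRoot.def] using hβ, ?_⟩
    have h1 := (residue_eq_zero_iff _).2 hβ'
    rw [map_sub, map_add, map_natCast, sub_eq_zero] at h1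
    exact h1
  choose β hβ hβr using hres
  have hinjθ : ∀ j k, θ (β j) = θ (β k) → j = k := fun j k hjk => by
    by_contra hne
    have hu : IsUnit (β j - β k) := by
      rw [← residue_ne_zero_iff_isUnit, map_sub, hβr, hβr, add_sub_add_left_eq_sub, sub_ne_zero]
      intro h
      refine hne ?_
      have h2 := (CharP.natCast_eq_natCast (ResidueField A) p).1 h
      rw [← ZMod.natCast_eq_natCast_iff, ZMod.natCast_val, ZMod.natCast_val, ZMod.cast_id, ZMod.cast_id] at h2
      exact h2
    have := hu.map θ
    rw [map_sub, hjk, sub_self] at this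
    exact not_isUnit_zero this
  haveI : IsGalois L L' := by
    let F : L'[X] := (f.map (algebraMap S L)).map (algebraMap L L')
    have hF : F = X ^ p - (X + C (algebraMap S L' c₀)) := by
      show ((f.map (algebraMap S L)).map (algebraMap L L')) = _
      rw [Polynomial.map_map, ← IsScalarTower.algebraMap_eq]
      simp [f]
    have hFd : F.natDegree = p := by rw [natDegree_map, hfm.natDegree_map, hfd]
    have hFroots : (Finset.univ.image fun j => θ (β j)).val ⊆ F.roots := fun x hx => by
      obtain ⟨j, -, rfl⟩ := Finset.mem_image.1 hx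
      rw [mem_roots ((hfm.map _).map _).ne_zero, IsRoot.def]
      show eval (θ (β j)) F = 0
      rw [hF]
      have := congrArg θ (hβ j)
      simp only [map_sub, map_pow, map_add, map_zero, AlgHom.commutes] at this
      simp only [eval_sub, eval_pow, eval_X, eval_add, eval_C]
      exact this
    have hcard : p ≤ F.roots.card := by
      have := Multiset.card_le_card ((Multiset.le_iff_subset (Finset.nodup _)).2 hFroots)
      rwa [Finset.card_val, Finset.card_image_of_injective _ (fun a b => hinjθ a b), Finset.card_univ, ZMod.card]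
        at this
    have hsplit : F.Splits := splits_iff_card_roots.2 (le_antisymm (F.card_roots') (hFd ▸ hcard))
    haveI : (f.map (algebraMap S L)).IsSplittingField L L' := ⟨hsplit, by
      rw [eq_top_iff, ← AdjoinRoot.adjoinRoot_eq_top]
      refine Algebra.adjoin_mono (Set.singleton_subset_iff.2 ?_)
      rw [mem_rootSet]
      exact ⟨(hfm.map _).ne_zero, AdjoinRoot.aeval_eq _ |>.trans AdjoinRoot.mk_self⟩⟩
    exact IsGalois.of_separable_splitting_field (p := f.map (algebraMap S L))
      (PerfectField.separable_of_irreducible hirrL.out)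
  obtain ⟨y, hy⟩ := h L' hdeg (algebraMap S L π) (by
    rw [Ne, map_eq_zero_iff _ (IsFractionRing.injective S L)]; exact hπ.ne_zero)
  -- every element is a unit times a power of the uniformiser
  obtain ⟨g, hg⟩ := AdjoinRoot.mk_surjective y
  obtain ⟨b, hb, hbg⟩ := IsLocalization.integerNormalization_spec (nonZeroDivisors S) g
  let g₀ := IsLocalization.integerNormalization (nonZeroDivisors S) g
  have hsy : θ (AdjoinRoot.mk f g₀) = algebraMap S L' b * y := by
    rw [hθmk, hbg, Algebra.smul_def, IsScalarTower.algebraMap_apply S L L', map_mul, ← hg]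
    rfl
  have hb0 : b ≠ 0 := nonZeroDivisors.ne_zero hb
  have hy0 : y ≠ 0 := fun e => by
    rw [e, Algebra.norm_zero] at hy
    exact hπ.ne_zero (IsFractionRing.injective S L (hy.symm.trans (map_zero _).symm))
  have hs0 : AdjoinRoot.mk f g₀ ≠ 0 := fun e => by
    rw [e, map_zero, eq_comm, mul_eq_zero, IsScalarTower.algebraMap_apply S L L',
      map_eq_zero_iff _ (algebraMap L L').injective, map_eq_zero_iff _ (IsFractionRing.injective S L)] at hsy
    exact hsy.elim hb0 hy0
  have hirrA : Irreducible (algebraMap S A π) :=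
    (IsDiscreteValuationRing.irreducible_iff_uniformizer _).2 hmax'
  obtain ⟨j, w, hjw⟩ := IsDiscreteValuationRing.eq_unit_mul_pow_irreducible hs0 hirrA
  obtain ⟨k, v, hkv⟩ := IsDiscreteValuationRing.eq_unit_mul_pow_irreducible hb0 hπ
  haveI : Module.Finite S A := (AdjoinRoot.powerBasis' hfm).finite
  have hN : ∀ u : A, ∃ r : S, algebraMap S L r = Algebra.norm L (θ u) := fun u =>
    IsIntegrallyClosed.isIntegral_iff.1 (Algebra.isIntegral_norm L
      ((IsIntegral.of_finite S u).map θ : IsIntegral S (θ u)))
  obtain ⟨r, hr⟩ := hN w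
  obtain ⟨r', hr'⟩ := hN ((w⁻¹ : Aˣ) : A)
  have hrr : r * r' = 1 := IsFractionRing.injective S L (by
    rw [map_mul, hr, hr', ← map_mul, ← map_mul, Units.mul_inv, map_one, map_one, map_one])
  have hfinal : r * (π ^ p) ^ j = b ^ p * π := IsFractionRing.injective S L (by
    have := congrArg (Algebra.norm L) hsy
    rw [hjw, map_mul θ, map_pow θ, AlgHom.commutes, map_mul (Algebra.norm L), map_pow (Algebra.norm L),
      map_mul (Algebra.norm L), IsScalarTower.algebraMap_apply S L L', IsScalarTower.algebraMap_apply S L L',
      Algebra.norm_algebraMap, Algebra.norm_algebraMap, hdeg, hy, ← hr] at this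
    simpa [map_mul, map_pow] using this)
  rw [hkv, mul_pow, ← pow_mul, mul_assoc, ← pow_mul, ← pow_succ] at hfinal
  have hexp : p * j = k * p + 1 :=
    IsDiscreteValuationRing.unit_mul_pow_congr_pow hπ hπ (IsUnit.of_mul_eq_one _ hrr).unit (v ^ p) _ _
      (by rw [IsUnit.unit_spec, Units.val_pow_eq_pow_val]; exact hfinal)
  have : p ∣ 1 := (Nat.dvd_add_right (Dvd.intro_left k rfl)).1 (hexp ▸ Dvd.intro j rfl)
  exact hp.not_dvd_one this

end Groth.L28.DvrLang
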