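import Groth.Agent.L28.EtTrace.BrauerNorm
import Groth.Agent.L05.Hensel.IntegralDomain
import Groth.Agent.L02.KrullAkizuki
import Mathlib.LinearAlgebra.Matrix.Charpoly.Eigs
import Mathlib.FieldTheory.IsAlgClosed.Spectrum
import Mathlib.FieldTheory.IsAlgClosed.AlgebraicClosure
import Mathlib.RingTheory.IntegralClosure.IntegrallyClosed
import Mathlib.RingTheory.DiscreteValuationRing.TFAE
import Mathlib.RingTheory.Norm.Basic

/-!
# Division algebras over the fraction field of a henselian discrete valuation ring
with algebraically closed residue field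
-/

set_option autoImplicit false
set_option linter.style.haveILetI false
set_option linter.unusedSectionVars false

universe u

open Polynomial

noncomputable section

namespace Groth.L28.DvrLang

variable {R : Type u} [CommRing R] [IsDomain R] [IsDiscreteValuationRing R]
variable {K : Type u} [Field K] [Algebra R K] [IsFractionRing R K]

/-- Norms of integral elements are integral. -/
theorem exists_norm_eq {D : Type u} [Ring D] [Algebra K D] [FiniteDimensional K D] [Algebra R D] [IsScalarTower R K D]
    {x : D} (hx : IsIntegral R x) : ∃ r : R, algebraMap R K r = Algebra.norm K x := by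
  classical
  rcases subsingleton_or_nontrivial D with hD | hD
  · exact ⟨1, by rw [Subsingleton.elim x 1, map_one, map_one]⟩
  refine IsIntegrallyClosed.isIntegral_iff.1 ?_
  let Ω := AlgebraicClosure K
  let b := Module.Free.chooseBasis K D
  let Φ : D →ₐ[R] Matrix _ _ Ω :=
    (((Algebra.ofId K Ω).mapMatrix).comp (Algebra.leftMulMatrix b)).restrictScalars R
  rw [Algebra.norm_eq_matrix_det b]
  suffices IsIntegral R (Φ x).det by
    have e : (Φ x).det = algebraMap K Ω (Algebra.leftMulMatrix b x).det :=
      (RingHom.map_det (algebraMap K Ω) _).symm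
    rw [e] at this
    exact (isIntegral_algHom_iff (IsScalarTower.toAlgHom R K Ω) (algebraMap K Ω).injective).1 this
  obtain ⟨g, hg, hgx⟩ := hx
  have hgA : aeval (Φ x) (g.map (algebraMap R Ω)) = 0 := by
    rw [aeval_map_algebraMap, aeval_algHom_apply, show aeval x g = 0 from hgx, map_zero]
  rw [Matrix.det_eq_prod_roots_charpoly]
  refine IsIntegral.multiset_prod fun μ hμ => ⟨g, hg, ?_⟩
  have h1 : μ ∈ spectrum Ω (Φ x) :=
    Matrix.mem_spectrum_iff_isRoot_charpoly.2 (isRoot_of_mem_roots hμ)
  have h2 := spectrum.subset_polynomial_aeval (Φ x) (g.map (algebraMap R Ω)) ⟨μ, h1, rfl⟩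
  haveI : Nonempty (Module.Free.ChooseBasisIndex K D) := b.index_nonempty
  rw [hgA, spectrum.zero_eq, Set.mem_singleton_iff] at h2
  exact eval_map (algebraMap R Ω) μ ▸ h2

variable [HenselianLocalRing R]
variable {D : Type u} [DivisionRing D] [Algebra K D] [FiniteDimensional K D] [Algebra R D] [IsScalarTower R K D]

/-- The commutative field generated by one element. -/
theorem exists_field (x : D) : ∃ (F : Type u) (_ : Field F) (_ : Algebra K F) (_ : FiniteDimensional K F)
    (φ : F →ₐ[K] D), x ∈ Set.range φ := by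
  have hx : IsIntegral K x := IsIntegral.of_finite K x
  haveI := Fact.mk (minpoly.irreducible hx)
  let φ : AdjoinRoot (minpoly K x) →ₐ[K] D := Ideal.Quotient.liftₐ _ (aeval x) fun p hp => by
    obtain ⟨q, rfl⟩ := Ideal.mem_span_singleton'.1 hp
    rw [map_mul, minpoly.aeval, mul_zero]
  exact ⟨AdjoinRoot (minpoly K x), inferInstance, inferInstance,
    (AdjoinRoot.powerBasis (minpoly.ne_zero hx)).finite, φ, AdjoinRoot.mk _ X, aeval_X x⟩

variable (R K)

/-- The valuation ring of a finite extension. -/
theorem exists_valuation (F : Type u) [Field F] [Algebra K F] [FiniteDimensional K F] [Algebra R F]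
    [IsScalarTower R K F] : ∃ (C : Subalgebra R F) (_ : IsDiscreteValuationRing C),
      (C = integralClosure R F) ∧ ∀ z : F, z ∈ C ∨ z⁻¹ ∈ C := by
  let C := integralClosure R F
  obtain ⟨hB, -, -, -⟩ := Groth.L02.KrullAkizuki.main (A := R) (B := C) K F
  haveI := hB
  haveI : IsFractionRing C F := IsIntegralClosure.isFractionRing_of_finite_extension R K F C
  haveI : Algebra.IsIntegral R C := IsIntegralClosure.isIntegral_algebra R F
  haveI : IsLocalRing C := Groth.L05.isLocalRing_of_integral_domain (A := R) C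
  have hinj : Function.Injective (algebraMap R C) := fun a b e => IsFractionRing.injective R K
    ((algebraMap K F).injective (by
      rw [← IsScalarTower.algebraMap_apply, ← IsScalarTower.algebraMap_apply]
      exact congrArg Subtype.val e))
  have hnf : ¬ IsField C := fun h => IsDiscreteValuationRing.not_isField R
    (isField_of_isIntegral_of_isField (R := R) (S := C) hinj h)
  haveI : IsDiscreteValuationRing C :=
    ((IsDiscreteValuationRing.TFAE C hnf).out 0 2 (a := IsDiscreteValuationRing C) (b := IsDedekindDomain C)).2 ‹_›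
  refine ⟨C, inferInstance, rfl, fun z => ?_⟩
  rcases ValuationRing.isInteger_or_isInteger C z with ⟨c, hc⟩ | ⟨c, hc⟩
  · exact Or.inl (hc ▸ c.2)
  · exact Or.inr (hc ▸ c.2)

variable {R}

include K in
theorem integral_or_inv (x : D) : IsIntegral R x ∨ IsIntegral R x⁻¹ := by
  obtain ⟨F, _, _, _, φ, z, rfl⟩ := exists_field (K := K) x
  letI : Algebra R F := ((algebraMap K F).comp (algebraMap R K)).toAlgebra
  haveI : IsScalarTower R K F := IsScalarTower.of_algebraMap_eq' rfl
  obtain ⟨C, _, hC, h⟩ := exists_valuation R K F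
  rw [← map_inv₀]
  subst hC
  exact (h z).imp (fun h => IsIntegral.map (φ.restrictScalars R) h) fun h => IsIntegral.map (φ.restrictScalars R) h

variable {K}

/-- An integral element of unit norm has integral inverse. -/
theorem integral_inv {x : D} (hx : IsIntegral R x) (r : R) (hr : IsUnit r) (hn : Algebra.norm K x = algebraMap R K r) :
    IsIntegral R x⁻¹ := by
  obtain ⟨F, _, _, _, φ, z, rfl⟩ := exists_field (K := K) x
  letI : Algebra R F := ((algebraMap K F).comp (algebraMap R K)).toAlgebra
  haveI : IsScalarTower R K F := IsScalarTower.of_algebraMap_eq' rfl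
  obtain ⟨C, _, hC, -⟩ := exists_valuation R K F
  subst hC
  have hz : IsIntegral R z := (isIntegral_algHom_iff (φ.restrictScalars R) φ.toRingHom.injective).1 hx
  let c : integralClosure R F := ⟨z, hz⟩
  rw [← map_inv₀]
  refine IsIntegral.map (φ.restrictScalars R) ?_
  by_cases hc : IsUnit c
  · obtain ⟨v, hv⟩ := hc
    have : z⁻¹ = ((v⁻¹ : (integralClosure R F)ˣ) : integralClosure R F) := by
      refine inv_eq_of_mul_eq_one_right ?_
      have h1 : c * ((v⁻¹ : (integralClosure R F)ˣ) : integralClosure R F) = 1 := by rw [← hv, Units.mul_inv]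
      exact congrArg Subtype.val h1
    rw [this]
    exact Subtype.prop _
  exfalso
  obtain ⟨π, hπ⟩ := IsDiscreteValuationRing.exists_irreducible R
  obtain ⟨ϖ, hϖ⟩ := IsDiscreteValuationRing.exists_irreducible (integralClosure R F)
  have hc0 : c ≠ 0 := fun h => by
    have h0 : φ z = 0 := by rw [show z = 0 from congrArg Subtype.val h, map_zero]
    rw [h0, Algebra.norm_zero] at hn
    exact hr.ne_zero (IsFractionRing.injective R K (hn.symm.trans (map_zero _).symm))
  have hπ0 : algebraMap R (integralClosure R F) π ≠ 0 := fun h => hπ.ne_zero (IsFractionRing.injective R K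
    ((algebraMap K F).injective (by
      rw [map_zero, map_zero]
      exact congrArg Subtype.val h)))
  obtain ⟨e, v, he⟩ := IsDiscreteValuationRing.eq_unit_mul_pow_irreducible hπ0 hϖ
  obtain ⟨j, w, hj⟩ := IsDiscreteValuationRing.eq_unit_mul_pow_irreducible hc0 hϖ
  have hj0 : j ≠ 0 := fun h => hc (by rw [hj, h, pow_zero, mul_one]; exact w.isUnit)
  have hkey : c ^ e = algebraMap R (integralClosure R F) π ^ j * ((w ^ e * v⁻¹ ^ j :
      (integralClosure R F)ˣ) : integralClosure R F) := by
    rw [hj, he, mul_pow, mul_pow, ← pow_mul, ← pow_mul, mul_comm e j, Units.val_mul, Units.val_pow_eq_pow_val,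
      Units.val_pow_eq_pow_val]
    calc _ = (v : integralClosure R F) ^ j * ((v⁻¹ : (integralClosure R F)ˣ) : integralClosure R F) ^ j *
          ((w : integralClosure R F) ^ e * ϖ ^ (j * e)) := by
          rw [← mul_pow, Units.mul_inv, one_pow, one_mul]
      _ = _ := by ring
  obtain ⟨s, hs⟩ := exists_norm_eq (K := K)
    (IsIntegral.map (φ.restrictScalars R) ((w ^ e * v⁻¹ ^ j : (integralClosure R F)ˣ) : integralClosure R F).2)
  have h1 := congrArg (fun t : integralClosure R F => Algebra.norm K (φ (t : F))) hkey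
  push_cast at h1
  simp only [map_mul, map_pow] at h1
  rw [hn] at h1
  have h2 : algebraMap R F π = algebraMap K F (algebraMap R K π) :=
    IsScalarTower.algebraMap_apply R K F π
  rw [h2, φ.commutes, Algebra.norm_algebraMap] at h1
  have h3 : r ^ e = (π ^ Module.finrank K D) ^ j * s := IsFractionRing.injective R K (by
    rw [map_mul, map_pow, map_pow, map_pow, hs]
    simpa using h1)
  refine hπ.not_isUnit ?_
  have h4 : IsUnit ((π ^ Module.finrank K D) ^ j * s) := h3 ▸ hr.pow e
  exact (isUnit_pow_iff Module.finrank_pos.ne').1 ((isUnit_pow_iff hj0).1 (isUnit_of_mul_isUnit_left h4))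

theorem integral_iff {x : D} : IsIntegral R x ↔ ∃ r : R, algebraMap R K r = Algebra.norm K x := by
  refine ⟨exists_norm_eq, fun ⟨r, hr⟩ => ?_⟩
  rcases eq_or_ne x 0 with rfl | hx
  · exact isIntegral_zero
  rcases integral_or_inv (R := R) K x with h | h
  · exact h
  obtain ⟨s, hs⟩ := exists_norm_eq (K := K) h
  have h1 : s * r = 1 := IsFractionRing.injective R K (by
    rw [map_mul, hs, hr, ← map_mul, inv_mul_cancel₀ hx, map_one, map_one])
  have := integral_inv (K := K) h s (IsUnit.of_mul_eq_one _ h1) hs.symm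
  rwa [inv_inv] at this

include K in
theorem integral_mul {x y : D} (hx : IsIntegral R x) (hy : IsIntegral R y) : IsIntegral R (x * y) := by
  obtain ⟨r, hr⟩ := exists_norm_eq (K := K) hx
  obtain ⟨s, hs⟩ := exists_norm_eq (K := K) hy
  exact (integral_iff (K := K)).2 ⟨r * s, by rw [map_mul, map_mul, hr, hs]⟩

include K in
theorem integral_one_add {z : D} (hz : IsIntegral R z) : IsIntegral R (1 + z) := by
  obtain ⟨F, _, _, _, φ, w, rfl⟩ := exists_field (K := K) z
  letI : Algebra R F := ((algebraMap K F).comp (algebraMap R K)).toAlgebra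
  haveI : IsScalarTower R K F := IsScalarTower.of_algebraMap_eq' rfl
  have hw : IsIntegral R w := (isIntegral_algHom_iff (φ.restrictScalars R) φ.toRingHom.injective).1 hz
  rw [← map_one φ, ← map_add]
  exact IsIntegral.map (φ.restrictScalars R) (isIntegral_one.add hw)

include K in
theorem integral_add {x y : D} (hx : IsIntegral R x) (hy : IsIntegral R y) : IsIntegral R (x + y) := by
  rcases eq_or_ne x 0 with rfl | hx0
  · rwa [zero_add]
  rcases eq_or_ne y 0 with rfl | hy0
  · rwa [add_zero]
  rcases integral_or_inv (R := R) K (x⁻¹ * y) with h | h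
  · rw [show x + y = x * (1 + x⁻¹ * y) by rw [mul_add, mul_one, mul_inv_cancel_left₀ hx0]]
    exact integral_mul (K := K) hx (integral_one_add (K := K) h)
  · rw [mul_inv_rev, inv_inv] at h
    rw [show x + y = y * (1 + y⁻¹ * x) by rw [mul_add, mul_one, mul_inv_cancel_left₀ hy0, add_comm]]
    exact integral_mul (K := K) hy (integral_one_add (K := K) h)

theorem norm_smul (r : R) (x : D) :
    Algebra.norm K (algebraMap R D r * x) = algebraMap R K (r ^ Module.finrank K D) * Algebra.norm K x := by
  rw [map_mul, IsScalarTower.algebraMap_apply R K D, Algebra.norm_algebraMap, map_pow]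

variable [IsAlgClosed (IsLocalRing.ResidueField R)]

/-- Every integral element is a scalar up to an element of non-unit norm. -/
theorem exists_scalar {a : D} (ha : IsIntegral R a) :
    ∃ (r : R) (b : D), IsIntegral R b ∧ a = algebraMap R D r + b ∧
      ∀ s : R, algebraMap R K s = Algebra.norm K b → ¬ IsUnit s := by
  obtain ⟨F, _, _, _, φ, z, rfl⟩ := exists_field (K := K) a
  letI : Algebra R F := ((algebraMap K F).comp (algebraMap R K)).toAlgebra
  haveI : IsScalarTower R K F := IsScalarTower.of_algebraMap_eq' rfl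
  have hz : IsIntegral R z := (isIntegral_algHom_iff (φ.restrictScalars R) φ.toRingHom.injective).1 ha
  obtain ⟨C, _, hC, -⟩ := exists_valuation R K F
  subst hC
  let C := integralClosure R F
  haveI : Algebra.IsIntegral R C := IsIntegralClosure.isIntegral_algebra R F
  haveI : FaithfulSMul R C := (faithfulSMul_iff_algebraMap_injective R C).2 fun a b e => IsFractionRing.injective R K
    ((algebraMap K F).injective (by
      rw [← IsScalarTower.algebraMap_apply, ← IsScalarTower.algebraMap_apply]
      exact congrArg Subtype.val e))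
  haveI : IsLocalHom (algebraMap R C) := by
    refine ⟨fun t ht => ?_⟩
    by_contra hnt
    obtain ⟨Q, hQ, hQc⟩ := Ideal.exists_maximal_ideal_liesOver_of_isIntegral (S := C) (IsLocalRing.maximalIdeal R)
    exact hQ.ne_top (Ideal.eq_top_of_isUnit_mem _ ((Ideal.mem_of_liesOver Q (IsLocalRing.maximalIdeal R) t).1 hnt) ht)
  let c : C := ⟨z, hz⟩
  have hint : IsIntegral (IsLocalRing.ResidueField R) (IsLocalRing.residue C c) := by
    obtain ⟨g, hg, hgc⟩ := Algebra.IsIntegral.isIntegral (R := R) c
    refine ⟨g.map (IsLocalRing.residue R), hg.map _, ?_⟩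
    rw [eval₂_map, show (algebraMap (IsLocalRing.ResidueField R) (IsLocalRing.ResidueField C)).comp
      (IsLocalRing.residue R) = (IsLocalRing.residue C).comp (algebraMap R C) from rfl, ← hom_eval₂, hgc, map_zero]
  obtain ⟨r₀, hr₀⟩ := minpoly.mem_range_of_degree_eq_one _ _
    (IsAlgClosed.degree_eq_one_of_irreducible _ (minpoly.irreducible hint))
  obtain ⟨r, rfl⟩ := IsLocalRing.residue_surjective r₀
  let b : C := c - algebraMap R C r
  have hb : ¬ IsUnit b := by
    rw [← IsLocalRing.residue_ne_zero_iff_isUnit, not_not, map_sub, sub_eq_zero]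
    exact hr₀.symm
  refine ⟨r, φ (b : F), IsIntegral.map (φ.restrictScalars R) b.2, ?_, fun s hs hsu => hb ?_⟩
  · show φ z = _
    rw [show (b : F) = z - algebraMap R F r from rfl, map_sub, IsScalarTower.algebraMap_apply R K F, φ.commutes,
      IsScalarTower.algebraMap_apply R K D, add_sub_cancel]
  have hinv := integral_inv (K := K) (IsIntegral.map (φ.restrictScalars R) b.2) s hsu hs.symm
  change IsIntegral R (φ (b : F))⁻¹ at hinv
  rw [← map_inv₀] at hinv
  have hb' : IsIntegral R (b : F)⁻¹ := (isIntegral_algHom_iff (φ.restrictScalars R) φ.toRingHom.injective).1 hinv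
  have hb0 : (b : F) ≠ 0 := fun h => by
    rw [h, map_zero, Algebra.norm_zero] at hs
    exact hsu.ne_zero (IsFractionRing.injective R K (hs.trans (map_zero _).symm))
  exact IsUnit.of_mul_eq_one (⟨(b : F)⁻¹, hb'⟩ : C) (Subtype.ext (mul_inv_cancel₀ hb0))

include K in
/-- The multiplication of integral elements is commutative. -/
theorem commute_of_integral {a b : D} (ha : IsIntegral R a) (hb : IsIntegral R b) : Commute a b := by
  classical
  obtain ⟨π, hπ⟩ := IsDiscreteValuationRing.exists_irreducible R
  let n := Module.finrank K D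
  have hn : 0 < n := Module.finrank_pos
  have hex : ∃ m : ℕ, 1 ≤ m ∧ ∃ (x : D) (v : Rˣ), IsIntegral R x ∧ Algebra.norm K x = algebraMap R K (v * π ^ m) :=
    ⟨n, hn, algebraMap R D π, 1, isIntegral_algebraMap, by
      rw [IsScalarTower.algebraMap_apply R K D, Algebra.norm_algebraMap, Units.val_one, one_mul, map_pow]⟩
  obtain ⟨hm, P, v, hP, hPn⟩ := Nat.find_spec hex
  let m := Nat.find hex
  have hP0 : P ≠ 0 := fun h => by
    rw [h, Algebra.norm_zero] at hPn
    exact (mul_ne_zero v.ne_zero (pow_ne_zero _ hπ.ne_zero))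
      (IsFractionRing.injective R K (hPn.symm.trans (map_zero _).symm))
  -- an element of non-unit norm is a multiple of `P`
  have hdiv : ∀ y : D, IsIntegral R y → (∀ s : R, algebraMap R K s = Algebra.norm K y → ¬ IsUnit s) →
      ∃ z : D, IsIntegral R z ∧ y = z * P := by
    intro y hy hyn
    refine ⟨y * P⁻¹, (integral_iff (K := K)).2 ?_, by rw [inv_mul_cancel_right₀ hP0]⟩
    rcases eq_or_ne y 0 with rfl | hy0
    · exact ⟨0, by rw [zero_mul, Algebra.norm_zero, map_zero]⟩
    obtain ⟨s, hs⟩ := exists_norm_eq (K := K) hy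
    have hs0 : s ≠ 0 := fun h => by
      rw [h, map_zero] at hs
      exact (Algebra.norm_ne_zero_iff.2 hy0) hs.symm
    obtain ⟨k, w, rfl⟩ := IsDiscreteValuationRing.eq_unit_mul_pow_irreducible hs0 hπ
    have hk : 1 ≤ k := Nat.one_le_iff_ne_zero.2 fun hk => hyn _ hs (by rw [hk, pow_zero, mul_one]; exact w.isUnit)
    have hmk : m ≤ k := Nat.find_min' hex ⟨hk, y, w, hy, hs.symm⟩
    refine ⟨(w * v⁻¹ : Rˣ) * π ^ (k - m), ?_⟩
    have hPn' : Algebra.norm K P⁻¹ * algebraMap R K (v * π ^ m) = 1 := by
      rw [← hPn, ← map_mul, inv_mul_cancel₀ hP0, map_one]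
    have hne : algebraMap R K (v * π ^ m) ≠ 0 := right_ne_zero_of_mul_eq_one hPn'
    refine mul_right_cancel₀ hne ?_
    rw [map_mul (Algebra.norm K), mul_assoc, hPn', mul_one, ← map_mul, ← hs]
    congr 1
    calc _ = ((v : R) * ((v⁻¹ : Rˣ) : R)) * (w * (π ^ (k - m) * π ^ m)) := by push_cast; ring
      _ = _ := by rw [Units.mul_inv, one_mul, ← pow_add, Nat.sub_add_cancel hmk]
  -- approximation by polynomials in `P`
  let A := Algebra.adjoin R ({P} : Set D)
  have happ : ∀ (k : ℕ) (y : D), IsIntegral R y → ∃ p ∈ A, ∃ z : D, IsIntegral R z ∧ y = p + z * P ^ k := by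
    intro k
    induction k with
    | zero => exact fun y hy => ⟨0, A.zero_mem, y, hy, by rw [pow_zero, mul_one, zero_add]⟩
    | succ k ih =>
      intro y hy
      obtain ⟨p, hp, z, hz, rfl⟩ := ih y hy
      obtain ⟨r, b, hb, rfl, hbn⟩ := exists_scalar (K := K) hz
      obtain ⟨z', hz', rfl⟩ := hdiv b hb hbn
      refine ⟨p + algebraMap R D r * P ^ k, A.add_mem hp (A.mul_mem (A.algebraMap_mem r)
        (A.pow_mem (Algebra.subset_adjoin rfl) k)), z', hz', ?_⟩
      rw [add_mul, mul_assoc, ← pow_succ', add_assoc]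
  have hcomm : ∀ p ∈ A, ∀ q ∈ A, p * q = q * p := by
    intro p hp q hq
    obtain ⟨f, rfl⟩ := (Algebra.adjoin_singleton_eq_range_aeval R P).le hp
    obtain ⟨g, rfl⟩ := (Algebra.adjoin_singleton_eq_range_aeval R P).le hq
    show aeval P f * aeval P g = aeval P g * aeval P f
    rw [← map_mul, ← map_mul, mul_comm]
  have hmem : ∀ p ∈ A, IsIntegral R p := fun p hp => by
    induction hp using Algebra.adjoin_induction with
    | mem x h => rw [h]; exact hP
    | algebraMap r => exact isIntegral_algebraMap
    | add x y _ _ hx hy => exact integral_add (K := K) hx hy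
    | mul x y _ _ hx hy => exact integral_mul (K := K) hx hy
  -- high powers of `P` are divisible by powers of `π`
  have hpow : ∀ M : ℕ, ∃ y : D, IsIntegral R y ∧ P ^ (n * M) = algebraMap R D (π ^ M) * y := by
    intro M
    have h0 : algebraMap R K (π ^ M) ≠ 0 := fun h =>
      pow_ne_zero M hπ.ne_zero (IsFractionRing.injective R K (h.trans (map_zero _).symm))
    refine ⟨algebraMap K D (algebraMap R K (π ^ M))⁻¹ * P ^ (n * M), (integral_iff (K := K)).2 ?_, ?_⟩
    · refine ⟨(v : R) ^ (n * M) * π ^ (m * (n * M) - M * n), mul_left_cancel₀ (pow_ne_zero n h0) ?_⟩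
      rw [map_mul (Algebra.norm K), Algebra.norm_algebraMap, map_pow (Algebra.norm K), hPn, inv_pow,
        mul_inv_cancel_left₀ (pow_ne_zero _ h0), ← map_pow, ← map_pow, ← map_mul, mul_pow, ← pow_mul,
        ← pow_mul]
      congr 1
      calc _ = (v : R) ^ (n * M) * (π ^ (M * n) * π ^ (m * (n * M) - M * n)) := by ring
        _ = _ := by
          rw [← pow_add, Nat.add_sub_cancel' (by rw [mul_comm M n]; exact Nat.le_mul_of_pos_left _ hm)]
    · rw [IsScalarTower.algebraMap_apply R K D, ← mul_assoc, ← map_mul, mul_inv_cancel₀ h0, map_one, one_mul]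
  -- commutators are infinitely divisible
  by_contra hne
  have hne' : a * b - b * a ≠ 0 := fun h => hne (sub_eq_zero.1 h)
  have habi : IsIntegral R (a * b - b * a) := by
    rw [sub_eq_add_neg]
    exact integral_add (K := K) (integral_mul (K := K) ha hb) (integral_mul (K := K) hb ha).neg
  obtain ⟨s, hs⟩ := exists_norm_eq (K := K) habi
  have hs0 : s ≠ 0 := fun h => Algebra.norm_ne_zero_iff.2 hne' (by rw [← hs, h, map_zero])
  obtain ⟨k, w, rfl⟩ := IsDiscreteValuationRing.eq_unit_mul_pow_irreducible hs0 hπ
  let M := k + 1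
  obtain ⟨y, hy, hyP⟩ := hpow M
  obtain ⟨p, hp, za, hza, ha'⟩ := happ (n * M) a ha
  obtain ⟨q, hq, zb, hzb, hb'⟩ := happ (n * M) b hb
  obtain ⟨ya, hya, ha''⟩ : ∃ ya, IsIntegral R ya ∧ a = p + algebraMap R D (π ^ M) * ya :=
    ⟨za * y, integral_mul (K := K) hza hy, by rw [ha', hyP, ← mul_assoc, ← Algebra.commutes, mul_assoc]⟩
  obtain ⟨yb, hyb, hb''⟩ : ∃ yb, IsIntegral R yb ∧ b = q + algebraMap R D (π ^ M) * yb :=
    ⟨zb * y, integral_mul (K := K) hzb hy, by rw [hb', hyP, ← mul_assoc, ← Algebra.commutes, mul_assoc]⟩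
  obtain ⟨E, hE, hcomb⟩ : ∃ E, IsIntegral R E ∧ a * b - b * a = algebraMap R D (π ^ M) * E := by
    let c := algebraMap R D (π ^ M)
    refine ⟨(p * yb + ya * b) + -(q * ya + yb * a), ?_, ?_⟩
    · exact integral_add (K := K) (integral_add (K := K) (integral_mul (K := K) (hmem p hp) hyb)
        (integral_mul (K := K) hya hb)) (integral_add (K := K) (integral_mul (K := K) (hmem q hq) hya)
        (integral_mul (K := K) hyb ha)).neg
    · have e1 : a * b = p * q + c * (p * yb + ya * b) := by
        conv_lhs => rw [ha'']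
        rw [add_mul, mul_add]
        conv_lhs => arg 1; rw [hb'', mul_add, ← mul_assoc, ← Algebra.commutes, mul_assoc]
        rw [mul_assoc, add_assoc]
      have e2 : b * a = q * p + c * (q * ya + yb * a) := by
        conv_lhs => rw [hb'']
        rw [add_mul, mul_add]
        conv_lhs => arg 1; rw [ha'', mul_add, ← mul_assoc, ← Algebra.commutes, mul_assoc]
        rw [mul_assoc, add_assoc]
      show _ = c * _
      rw [e1, e2, hcomm p hp q hq]
      simp only [mul_add, mul_neg, neg_add]
      abel
  obtain ⟨t, ht⟩ := exists_norm_eq (K := K) hE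
  have h5 : (w : R) * π ^ k = (π ^ M) ^ n * t := IsFractionRing.injective R K (by
    rw [hs, hcomb, norm_smul, map_mul, ht])
  have h6 : π ^ (k + 1) ∣ π ^ k := by
    refine (Units.dvd_mul_left (u := w)).1 ⟨π ^ (M * n - (k + 1)) * t, ?_⟩
    rw [h5, ← pow_mul, ← mul_assoc, ← pow_add, Nat.add_sub_cancel' (Nat.le_mul_of_pos_right _ hn)]
  exact absurd ((pow_dvd_pow_iff hπ.ne_zero hπ.not_isUnit).1 h6) (by omega)

variable (R K)

include R in
/-- Lang's theorem. -/
theorem brTrivial : EtTrace.BrTrivial K := by
  intro D _ _ _ _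
  letI : Algebra R D := Algebra.compHom D (algebraMap R K)
  haveI : IsScalarTower R K D := IsScalarTower.of_algebraMap_eq' rfl
  have hc : ∀ a b : D, Commute a b := fun a b => by
    rcases integral_or_inv (R := R) K a with ha | ha <;> rcases integral_or_inv (R := R) K b with hb | hb
    · exact commute_of_integral (K := K) ha hb
    · exact Commute.inv_right_iff₀.1 (commute_of_integral (K := K) ha hb)
    · exact Commute.inv_left_iff₀.1 (commute_of_integral (K := K) ha hb)
    · exact Commute.inv_left_iff₀.1 (Commute.inv_right_iff₀.1 (commute_of_integral (K := K) ha hb))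
  have htop : (⊥ : Subalgebra K D) = ⊤ := by
    rw [← Algebra.IsCentral.center_eq_bot K D]
    exact eq_top_iff.2 fun x _ => Subalgebra.mem_center_iff.2 fun y => hc y x
  exact Subalgebra.bot_eq_top_iff_finrank_eq_one.1 htop

end Groth.L28.DvrLang
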