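import Groth.Agent.L28.CdLower.Residue
import Groth.Agent.L28.FieldTower.Base
import Groth.Agent.L28.FieldCd.CdOne
import Groth.Agent.L28.GmH1.Lift
import Groth.Agent.L28.EtCartan.ArtinSchreier

/-! # Degree one cohomology of fields -/

set_option autoImplicit false
set_option linter.style.haveILetI false
set_option linter.unusedSectionVars false
set_option backward.isDefEq.respectTransparency.types false

universe u

open CategoryTheory CategoryTheory.Limits AlgebraicGeometry Opposite CategoryTheory.Abelian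
open W4c5etcohweilstudent (artinSchreierEndo)

noncomputable section

namespace Groth.L28.DvrLang

open Groth.L27
open Groth.L27.LimCoh (δH δH_apply exists_δH exists_map_of_δH_eq_zero secEq secEq_map)
open Groth.L28.GmH1 (toU ofU)

theorem δH_map {X : Scheme.{u}} {E : ShortComplex (EtCoh.Ab X)} (hE : E.ShortExact) (n : ℕ)
    (z : EtCoh.H X E.X₂ n) : δH hE n ((EtCoh.HF X n).map E.g z) = 0 := by
  refine (congrArg (δH hE n) (EtSite.HF_map_apply E.g n z)).trans ?_
  rw [δH_apply, Ext.comp_assoc_of_second_deg_zero, hE.comp_extClass, Ext.comp_zero]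

theorem toU_nsmul {X : Scheme.{u}} {A : X.Etale} (n : ℕ) (b : (EtCoh.Gm X).obj.obj (op A)) :
    (toU (n • b) : Γ(A.left, ⊤)) = (toU b : Γ(A.left, ⊤)) ^ n := by
  induction n with
  | zero => simp [toU]; rfl
  | succ n ih => rw [succ_nsmul, GmH1.toU_add, ih, pow_succ]

theorem exists_pow_eq_of_cdLE_zero {p : ℕ} (hp : p.Prime) {K : Type u} [Field K] (hK : (p : K) ≠ 0)
    (h : FieldTower.CdLE p (Spec (CommRingCat.of K)) 0) (x : K) (hx : x ≠ 0) : ∃ y : K, y ^ p = x := by
  let X := Spec (CommRingCat.of K)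
  have hu : IsUnit (p : Γ(X, ⊤)) := by
    rw [← map_natCast (Scheme.ΓSpecIso (CommRingCat.of K)).inv.hom]
    exact (isUnit_iff_ne_zero.2 hK).map _
  have hS := EtSix.kummerShortExact (GmTorsion.epi_powMap hu)
  let e : Γ((EtCoh.top X).left, ⊤) ≃+* K := (Scheme.ΓSpecIso (CommRingCat.of K)).commRingCatIsoToRingEquiv
  let a : (EtCoh.Gm X).obj.obj (op (EtCoh.top X)) :=
    ofU ((Units.map (e.symm : K →* Γ((EtCoh.top X).left, ⊤))) (Units.mk0 x hx))
  haveI : Subsingleton (EtCoh.H X (EtCoh.mu X p) 1) :=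
    h _ (DerBC.Killed.isLTorsion ⟨p ^ 1, FinCovCrit.primesIn_pow hp 1, by
      rw [pow_one]; exact CdLower.nsmul_id_mu X p⟩) 1 (by omega)
  obtain ⟨z, hz⟩ := exists_map_of_δH_eq_zero hS 0 ((secEq (EtCoh.Gm X)).symm a)
    (Subsingleton.elim (α := EtCoh.H X (EtCoh.mu X p) 1) _ _)
  have h1 : (EtCoh.powMap X p).hom.app (op (EtCoh.top X)) (secEq (EtCoh.Gm X) z) = a :=
    (secEq_map (EtCoh.powMap X p) z).symm.trans ((congrArg (secEq (EtCoh.Gm X)) hz).trans (AddEquiv.apply_symm_apply _ a))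
  have h2 : (EtCoh.powMap X p).hom.app (op (EtCoh.top X)) (secEq (EtCoh.Gm X) z) = p • secEq (EtCoh.Gm X) z := by
    show (((sheafToPresheaf _ _) ⋙ (evaluation _ _).obj (op (EtCoh.top X))).map (p • 𝟙 (EtCoh.Gm X))) _ = _
    rw [Functor.map_nsmul, CategoryTheory.Functor.map_id]
    rfl
  refine ⟨e (toU (secEq (EtCoh.Gm X) z) : Γ((EtCoh.top X).left, ⊤)), ?_⟩
  rw [← map_pow, ← toU_nsmul, ← h2, h1]
  exact e.apply_symm_apply x

theorem subsingleton_H_one_const {p : ℕ} [Fact p.Prime] {K : Type u} [Field K] (hK : (p : K) = 0)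
    (h : ∀ c : K, ∃ y : K, y ^ p - y = c) :
    Subsingleton (EtCoh.H (Spec (CommRingCat.of K)) (EtCoh.const (Spec (CommRingCat.of K)) (ZMod p)) 1) := by
  let X := Spec (CommRingCat.of K)
  have h0 : (p : Γ(X, ⊤)) = 0 := by
    rw [← map_natCast (Scheme.ΓSpecIso (CommRingCat.of K)).inv.hom, hK, map_zero]
  have hS := Groth.L28.EtCartan.shortExact_asSeq (X := X) p h0
  haveI : Subsingleton (EtCoh.H X (EtCoh.Ga X) 1) :=
    Groth.L28.EtCartan.subsingleton_H 0 _ Groth.L28.EtCartan.acyc_Ga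
  refine subsingleton_of_forall_eq 0 fun c => ?_
  obtain ⟨y, rfl⟩ := exists_δH hS 0 c (Subsingleton.elim (α := EtCoh.H X (EtCoh.Ga X) 1) _ _)
  let e : Γ((EtCoh.top X).left, ⊤) ≃+* K := (Scheme.ΓSpecIso (CommRingCat.of K)).commRingCatIsoToRingEquiv
  obtain ⟨w, hw⟩ := h (e (EtCartan.toFn (EtCoh.top X) (secEq (EtCoh.Ga X) y)))
  let b : (EtCoh.Ga X).obj.obj (op (EtCoh.top X)) := ULift.up (e.symm w)
  have h1 : (artinSchreierEndo X p Fact.out h0).hom.app (op (EtCoh.top X)) b = secEq (EtCoh.Ga X) y :=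
    ULift.ext _ _ (e.injective (by
      show e (EtCartan.toFn _ ((artinSchreierEndo X p Fact.out h0).hom.app (op (EtCoh.top X)) b)) = _
      rw [EtCartan.toFn_as, map_sub, map_pow, show e (EtCartan.toFn (EtCoh.top X) b) = w from e.apply_symm_apply w, hw]
      rfl))
  have h2 : (EtCoh.HF X 0).map (artinSchreierEndo X p Fact.out h0) ((secEq (EtCoh.Ga X)).symm b) = y :=
    (secEq (EtCoh.Ga X)).injective ((secEq_map _ _).trans (by rw [AddEquiv.apply_symm_apply]; exact h1))
  exact (congrArg (δH hS 0) h2.symm).trans (δH_map hS 0 _)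

end Groth.L28.DvrLang
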