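import Groth.Agent.L28.DvrLang.Brauer
import Groth.Agent.L28.CdLower.Upper
import Mathlib.FieldTheory.Perfect
import Mathlib.FieldTheory.IsSepClosed

/-! # The upper bound in mixed characteristic -/

set_option autoImplicit false
set_option linter.style.haveILetI false
set_option linter.unusedSectionVars false
set_option backward.isDefEq.respectTransparency.types false

universe u

open CategoryTheory CategoryTheory.Limits AlgebraicGeometry Opposite IsLocalRing

noncomputable section

namespace Groth.L28.DvrLang

open Groth.L27
open FieldTower (CdLE)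

theorem isAlgClosed_of_perfect (k : Type u) [Field k] [PerfectField k] [IsSepClosed k] : IsAlgClosed k :=
  IsAlgClosed.of_exists_root k fun q _ hq => IsSepClosed.exists_root q (fun h => by
    exact absurd (Polynomial.degree_eq_natDegree hq.ne_zero ▸ h) (by exact_mod_cast hq.natDegree_pos.ne'))
    (PerfectField.separable_of_irreducible hq)

/-- Finite extensions keep the hypotheses. -/
theorem exists_finite_model (R K : Type u) [CommRing R] [IsDomain R] [IsDiscreteValuationRing R]
    [HenselianLocalRing R] [IsAlgClosed (ResidueField R)] [Field K] [Algebra R K] [IsFractionRing R K]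
    (E : Type u) [Field E] [Algebra K E] [FiniteDimensional K E] :
    ∃ (B : Type u) (_ : CommRing B) (_ : IsDomain B) (_ : IsDiscreteValuationRing B) (_ : HenselianLocalRing B)
      (_ : IsAlgClosed (ResidueField B)) (_ : Algebra B E), IsFractionRing B E := by
  letI : Algebra R E := ((algebraMap K E).comp (algebraMap R K)).toAlgebra
  haveI : IsScalarTower R K E := IsScalarTower.of_algebraMap_eq' rfl
  obtain ⟨C, hC, rfl, -⟩ := exists_valuation R K E
  haveI := hC
  haveI : IsFractionRing (integralClosure R E) E :=
    IsIntegralClosure.isFractionRing_of_finite_extension R K E (integralClosure R E)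
  haveI : Algebra.IsIntegral R (integralClosure R E) := IsIntegralClosure.isIntegral_algebra R E
  haveI : HenselianLocalRing (integralClosure R E) := Groth.L05.henselianLocalRing_of_integral (A := R) _
  haveI : FaithfulSMul R (integralClosure R E) := (faithfulSMul_iff_algebraMap_injective R _).2 fun a b e =>
    IsFractionRing.injective R K ((algebraMap K E).injective (by
      rw [← IsScalarTower.algebraMap_apply, ← IsScalarTower.algebraMap_apply]
      exact congrArg Subtype.val e))
  haveI : IsLocalHom (algebraMap R (integralClosure R E)) := Algebra.IsIntegral.isLocalHom R _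
  haveI : Algebra.IsAlgebraic (ResidueField R) (ResidueField (integralClosure R E)) := by
    refine ⟨fun z => ?_⟩
    obtain ⟨c, rfl⟩ := residue_surjective z
    obtain ⟨g, hg, hgc⟩ := Algebra.IsIntegral.isIntegral (R := R) c
    refine IsIntegral.isAlgebraic ⟨g.map (residue R), hg.map _, ?_⟩
    rw [Polynomial.eval₂_map, show (algebraMap (ResidueField R) (ResidueField (integralClosure R E))).comp
      (residue R) = (residue (integralClosure R E)).comp (algebraMap R (integralClosure R E)) from rfl,
      ← Polynomial.hom_eval₂, hgc, map_zero]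
  haveI : IsAlgClosed (ResidueField (integralClosure R E)) :=
    IsAlgClosed.of_ringEquiv _ _ (RingEquiv.ofBijective (algebraMap (ResidueField R) (ResidueField (integralClosure R E)))
      IsAlgClosed.algebraMap_bijective_of_isIntegral)
  exact ⟨integralClosure R E, inferInstance, inferInstance, inferInstance, inferInstance, inferInstance,
    inferInstance, inferInstance⟩

/-- Fraction fields of henselian discrete valuation rings with algebraically closed residue fields. -/
theorem cdLE_one_algClosed {ℓ : ℕ} (hℓ : ℓ.Prime) (R : Type u) [CommRing R] [IsDomain R] [IsDiscreteValuationRing R]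
    [HenselianLocalRing R] [IsAlgClosed (ResidueField R)] :
    CdLE ℓ (Spec (CommRingCat.of (FractionRing R))) 1 := by
  haveI : Fact ℓ.Prime := ⟨hℓ⟩
  refine FieldTower.cdLE_one_of_normSurj hℓ _ fun E _ _ _ _ _ => ?_
  obtain ⟨B, _, _, _, _, _, _, hB⟩ := exists_finite_model R (FractionRing R) E
  exact EtTrace.normSurj_of_brTrivial E (brTrivial B E) ℓ

variable {X : Scheme.{u}}

/-- The fibres of the generic point. -/
theorem cdLE_fib_generic [IsIntegral X] [IsLocallyNoetherian X] {ℓ : ℕ}
    (hdvr : ∀ y : X, y ≠ genericPoint X → IsDiscreteValuationRing (X.presheaf.stalk y))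
    (hone : ∀ (y : X), y ≠ genericPoint X → ∀ (R : Type u) [CommRing R] [IsDomain R] [IsDiscreteValuationRing R]
      [Algebra (X.presheaf.stalk y) R] [IsLocalHom (algebraMap (X.presheaf.stalk y) R)]
      [Hensel.IsStrictHenselization (X.presheaf.stalk y) R], CdLE ℓ (Spec (CommRingCat.of (FractionRing R))) 1)
    (y : X) (R : Type u) [CommRing R] [IsLocalRing R] [Algebra (X.presheaf.stalk y) R]
    [IsLocalHom (algebraMap (X.presheaf.stalk y) R)]
    [hS : Hensel.IsStrictHenselization (X.presheaf.stalk y) R] : CdLE ℓ (DimFun.Fib (genericPoint X) y R) 1 := by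
  rcases eq_or_ne y (genericPoint X) with rfl | hy
  · exact fun F hF q hq => DimFun.cdLE_fib_self (genericPoint X) R F hF q (by omega)
  · haveI := hdvr y hy
    obtain ⟨_, hR⟩ := CdLower.exists_dvr_strict (X.presheaf.stalk y) R
    refine DimFun.cdLE_fib (genericPoint X) y R fun h P hP => ?_
    have hker : RingHom.ker (Cyc.specMap y (genericPoint X) h) = ⊥ := by
      by_contra hne
      have hmax : (RingHom.ker (Cyc.specMap y (genericPoint X) h)).IsMaximal :=
        Ideal.IsPrime.isMaximal inferInstance hne
      have he : (⟨RingHom.ker (Cyc.specMap y (genericPoint X) h), inferInstance⟩ :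
          PrimeSpectrum (X.presheaf.stalk y)) = closedPoint (X.presheaf.stalk y) :=
        PrimeSpectrum.ext (IsLocalRing.eq_maximalIdeal hmax)
      have := DimFun.fromSpecStalk_ker (genericPoint X) y h
      rw [he, Scheme.fromSpecStalk_closedPoint] at this
      exact hy this
    have hP0 : P = ⊥ := by
      rw [hker, Ideal.map_bot] at hP
      exact le_antisymm (hP.2 ⟨Ideal.isPrime_bot, le_rfl⟩ bot_le) bot_le
    subst hP0
    haveI := hR
    let e : FractionRing R ≃+* FractionRing (R ⧸ (⊥ : Ideal R)) :=
      IsFractionRing.ringEquivOfRingEquiv (RingEquiv.quotientBot R).symm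
    exact (hone y hy R).of_integral (Spec.map e.toCommRingCatIso.hom)

/-- The higher direct images from the generic point vanish above one. -/
theorem isZero_Rpush_gen [IsIntegral X] [IsLocallyNoetherian X] [QuasiCompact (Divisor.gen X)]
    [QuasiSeparated (Divisor.gen X)] {ℓ : ℕ}
    (hdvr : ∀ y : X, y ≠ genericPoint X → IsDiscreteValuationRing (X.presheaf.stalk y))
    (hone : ∀ (y : X), y ≠ genericPoint X → ∀ (R : Type u) [CommRing R] [IsDomain R] [IsDiscreteValuationRing R]
      [Algebra (X.presheaf.stalk y) R] [IsLocalHom (algebraMap (X.presheaf.stalk y) R)]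
      [Hensel.IsStrictHenselization (X.presheaf.stalk y) R], CdLE ℓ (Spec (CommRingCat.of (FractionRing R))) 1)
    (G : EtCoh.Ab (Spec (X.presheaf.stalk (genericPoint X)))) (hG : EtAcyc.IsLTorsion {ℓ} G) (q : ℕ) (hq : 2 ≤ q) :
    IsZero ((EtCoh.Rpush (Divisor.gen X) q).obj G) := by
  refine (EtSite.isZero_iff_stalks _).2 fun Ω _ _ ξ => ?_
  obtain ⟨R, _, _, _, _, hS⟩ := L05.Henselization.exists_isStrictHenselization (X.presheaf.stalk (ξ.base default))
  haveI : IsSepClosed (IsLocalRing.ResidueField R) := hS.isSepClosure.sep_closed
  obtain ⟨e⟩ := StalkRpush.nonempty_natIso (Divisor.gen X) (ξ.base default) R q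
  refine DimFun.isZero_stalk_of_base (Hens2.geomPt X (ξ.base default) R) ξ (PBC.geomPt_default _ _ R).symm ?_
  refine IsZero.of_iso (@AddCommGrpCat.isZero_of_subsingleton _ ?_) (e.app G)
  let η := genericPoint X
  haveI : IsIso (X.residue η) := (ConcreteCategory.isIso_iff_bijective _).2
    ⟨(X.residue η).hom.injective, X.residue_surjective η⟩
  let i : Spec (X.presheaf.stalk η) ⟶ Spec (X.residueField η) := inv (Spec.map (X.residue η))
  have hi : i ≫ X.fromSpecResidueField η = Divisor.gen X := by
    simp [i, Scheme.fromSpecResidueField, Divisor.gen, η]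
  let m := pullback.map (Divisor.gen X) (Hens2.specOf X (ξ.base default) R) (X.fromSpecResidueField η)
    (Hens2.specOf X (ξ.base default) R) i (𝟙 _) (𝟙 _) (by rw [Category.comp_id, hi]) (by simp)
  haveI : IsIso m := pullback.map_isIso _ _ _ _ _ _ _ _ _
  exact (cdLE_fib_generic hdvr hone (ξ.base default) R).of_integral m _
    (CompTransfer.isLTorsion_pull _ _ hG) q (by omega)

/-- The fraction field of a henselian discrete valuation ring with perfect residue field. -/
theorem cdLE_fraction_perfect {ℓ : ℕ} (hℓ : ℓ.Prime) (R : Type u) [CommRing R] [IsDomain R]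
    [IsDiscreteValuationRing R] [HenselianLocalRing R] [PerfectField (ResidueField R)] {d : ℕ}
    (h : CdLE ℓ (Spec (CommRingCat.of (ResidueField R))) d) :
    CdLE ℓ (Spec (CommRingCat.of (FractionRing R))) (d + 1) := by
  let X := Spec (CommRingCat.of R)
  let Y := Spec (X.presheaf.stalk (genericPoint X))
  let j : Y ⟶ X := Divisor.gen X
  haveI : IsLocallyNoetherian X := inferInstance
  haveI : IsAffineHom j := inferInstance
  have hone : ∀ (y : X), y ≠ genericPoint X → ∀ (S : Type u) [CommRing S] [IsDomain S] [IsDiscreteValuationRing S]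
      [Algebra (X.presheaf.stalk y) S] [IsLocalHom (algebraMap (X.presheaf.stalk y) S)]
      [Hensel.IsStrictHenselization (X.presheaf.stalk y) S], CdLE ℓ (Spec (CommRingCat.of (FractionRing S))) 1 := by
    intro y hy S _ _ _ _ _ hS
    have hy' : y = closedPoint R := by
      refine PrimeSpectrum.ext (IsLocalRing.eq_maximalIdeal (Ideal.IsPrime.isMaximal y.2 fun hb => hy ?_))
      refine PrimeSpectrum.ext ?_
      rw [hb]
      exact (congrArg PrimeSpectrum.asIdeal (genericPoint_eq_bot_of_affine (CommRingCat.of R))).symm
    subst hy'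
    let rE : (X.presheaf.stalk (closedPoint R) : Type u) ≃+* R :=
      (AlgebraicGeometry.stalkClosedPointIso (CommRingCat.of R)).commRingCatIsoToRingEquiv
    let eκ : ResidueField R ≃+* ResidueField (X.presheaf.stalk (closedPoint R)) :=
      IsLocalRing.ResidueField.mapEquiv rE.symm
    letI := eκ.toRingHom.toAlgebra
    haveI : FiniteDimensional (ResidueField R) (ResidueField (X.presheaf.stalk (closedPoint R))) :=
      RingHom.Finite.of_surjective eκ.toRingHom eκ.surjective
    haveI : PerfectField (ResidueField (X.presheaf.stalk (closedPoint R))) :=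
      Algebra.IsAlgebraic.perfectField (K := ResidueField R)
    haveI := hS.henselian
    haveI := hS.isSepClosure
    haveI : IsSepClosed (ResidueField S) := hS.isSepClosure.sep_closed
    haveI : Algebra.IsAlgebraic (ResidueField (X.presheaf.stalk (closedPoint R))) (ResidueField S) :=
      Algebra.IsSeparable.isAlgebraic _ _
    haveI : PerfectField (ResidueField S) :=
      Algebra.IsAlgebraic.perfectField (K := ResidueField (X.presheaf.stalk (closedPoint R)))
    haveI := isAlgClosed_of_perfect (ResidueField S)
    exact cdLE_one_algClosed hℓ S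
  have hY : CdLE ℓ Y (d + 1) := fun F hF q hq =>
    FieldTower.CdLE.of_leray j d (CdLower.cdLE_spec_henselian R h) 1 F hF
      (fun b hb => isZero_Rpush_gen (CdLower.isDiscreteValuationRing_stalk R) hone F hF b (by omega)) q hq
  let L := X.functionField
  haveI : IsDomain (CommRingCat.of R) := ‹IsDomain R›
  letI : Algebra R L := instAlgebraCarrierFunctionFieldSpec (CommRingCat.of R)
  haveI : IsFractionRing R L := functionField_isFractionRing_of_affine (CommRingCat.of R)
  let e : X.presheaf.stalk (genericPoint X) ≅ CommRingCat.of (FractionRing R) :=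
    (FractionRing.algEquiv R L).symm.toRingEquiv.toCommRingCatIso
  exact hY.of_integral (Spec.map e.hom)

end Groth.L28.DvrLang
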